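import Cfsg.Agent.Lib.Rep.CurtisRichen.Cells
import Cfsg.Agent.Lib.Block.DefiningChar.Chevalley
import Cfsg.Agent.Lib.Lie.Chev.StWeyl
import Cfsg.Agent.Lib.Lie.Chev.StCosets
import Cfsg.Agent.Lib.Lie.Chev.Gen

/-!
# The rank one subgroups and the cells of a Chevalley group
-/

set_option autoImplicit false
set_option maxHeartbeats 800000

namespace CfsgLib.Lie.Chev.SimpleMod

open Cfsg.Lie CfsgLib.Lie.Chev
open CfsgLib.Rep.CurtisRichen (upp low dia wey)
open CfsgLib.Block.DefiningChar.Chevalley (UG TG rootHom NegEx)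
open scoped MatrixGroups

variable {D : ChevalleyDatum} {K : Type*} [Field K]

variable (D K) in
/-- the negative unipotent subgroup inside the group -/
noncomputable abbrev VG : Subgroup ↥(D.group K) := (D.negUnipotent K).subgroupOf (D.group K)

section

variable (C : Full D)

/-- the homomorphism of `SL₂` of a fundamental root -/
noncomputable def hom (i : Fin D.rank) :
    Matrix.SpecialLinearGroup (Fin 2) K →* ↥(D.group K) :=
  ((C.G.sl2Fam (C.G.simp' i)).hom (C.G.sl2Fam_mult _)).codRestrict (D.group K) fun g => by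
    have h : ((C.G.sl2Fam (C.G.simp' i)).hom (C.G.sl2Fam_mult _)).range ≤ D.group K := by
      rw [CfsgLib.Lie.SL2Rel.Fam.hom_range, Subgroup.closure_le]
      rintro x (⟨t, rfl⟩ | ⟨t, rfl⟩) <;> exact C.G.xu_mem _ _
    exact h ⟨g, rfl⟩

theorem hom_upp (i : Fin D.rank) (t : K) :
    ((hom C i (upp t) : ↥(D.group K)) : GL D.Idx K) = C.G.xu (C.G.simp' i) t := by
  rw [show upp t = CfsgLib.Lie.SL2Rel.Fam.upper t from Subtype.ext rfl]
  exact CfsgLib.Lie.SL2Rel.Fam.hom_upper (C.G.sl2Fam (C.G.simp' i)) (C.G.sl2Fam_mult _) t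

theorem hom_low (i : Fin D.rank) (t : K) :
    ((hom C i (low t) : ↥(D.group K)) : GL D.Idx K) = C.G.xu (C.G.negr (C.G.simp' i)) t := by
  rw [show low t = CfsgLib.Lie.SL2Rel.Fam.lower t from Subtype.ext rfl]
  exact CfsgLib.Lie.SL2Rel.Fam.hom_lower (C.G.sl2Fam (C.G.simp' i)) (C.G.sl2Fam_mult _) t

theorem hom_wey (i : Fin D.rank) :
    ((hom C i wey : ↥(D.group K)) : GL D.Idx K) = C.G.nU i := by
  have e : (wey : Matrix.SpecialLinearGroup (Fin 2) K) = upp 1 * low (-1) * upp 1 := by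
    apply Matrix.SpecialLinearGroup.ext
    intro a b
    simp only [Matrix.SpecialLinearGroup.coe_mul]
    fin_cases a <;> fin_cases b <;> simp [upp, low, wey, Matrix.mul_apply, Fin.sum_univ_two]
  rw [e, map_mul, map_mul, Subgroup.coe_mul, Subgroup.coe_mul, hom_upp, hom_low, ← C.G.nE_simp_one,
    Good.nE, inv_one]

theorem hom_dia (i : Fin D.rank) (a : Kˣ) :
    ((hom C i (dia a) : ↥(D.group K)) : GL D.Idx K) = C.G.hd (C.G.simp' i) a := by
  have e : dia a = upp (a : K) * low (-(a : K)⁻¹) * upp (a : K) *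
      (upp (-1 : K) * low 1 * upp (-1 : K)) := by
    apply Matrix.SpecialLinearGroup.ext
    intro b c
    have h := a.ne_zero
    simp only [Matrix.SpecialLinearGroup.coe_mul]
    fin_cases b <;> fin_cases c <;>
      simp [upp, low, dia, Matrix.mul_apply, Fin.sum_univ_two, h]
  rw [e, ← C.G.hE_eq]
  simp only [map_mul, Subgroup.coe_mul, hom_upp, hom_low, Good.hE, Good.nE, inv_neg, inv_one, neg_neg]

/-- the product set of the negative root subgroups other than `-α_i` and the one of `-α_i` -/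
theorem exists_split (i : Fin D.rank) {y : GL D.Idx K} (hy : y ∈ D.negUnipotent K) :
    ∃ e ∈ RootGrp C.G K (NegEx C i), ∃ t : K, y = e * C.G.xu (C.G.negr (C.G.simp' i)) t := by
  rw [C.G.negUnipotent_eq_closure] at hy
  induction hy using Subgroup.closure_induction with
  | one => exact ⟨1, one_mem _, 0, by rw [C.G.xu_zero, mul_one]⟩
  | mem x hx =>
    obtain ⟨r, t, hr, rfl⟩ := hx
    by_cases h : r = C.G.negr (C.G.simp' i)
    · subst h; exact ⟨1, one_mem _, t, (one_mul _).symm⟩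
    · exact ⟨_, Subgroup.subset_closure ⟨r, t, ⟨hr, h⟩, rfl⟩, 0, by rw [C.G.xu_zero, mul_one]⟩
  | mul a b _ _ ha hb =>
    obtain ⟨e, he, t, rfl⟩ := ha
    obtain ⟨e', he', t', rfl⟩ := hb
    refine ⟨e * (C.G.xu (C.G.negr (C.G.simp' i)) t * e' * (C.G.xu (C.G.negr (C.G.simp' i)) t)⁻¹),
      mul_mem he (CfsgLib.Block.DefiningChar.Chevalley.xu_conj_negEx C i (Or.inr rfl) t he'), t + t', ?_⟩
    rw [C.G.xu_add]; group
  | inv a _ ha =>
    obtain ⟨e, he, t, rfl⟩ := ha
    refine ⟨C.G.xu (C.G.negr (C.G.simp' i)) (-t) * e⁻¹ * (C.G.xu (C.G.negr (C.G.simp' i)) (-t))⁻¹,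
      CfsgLib.Block.DefiningChar.Chevalley.xu_conj_negEx C i (Or.inr rfl) _ (inv_mem he), -t, ?_⟩
    rw [mul_inv_rev, C.G.xu_inv]; group

theorem conj_negEx_mem (i : Fin D.rank) {e : GL D.Idx K} (he : e ∈ RootGrp C.G K (NegEx C i)) :
    C.G.nU i * e * (C.G.nU i)⁻¹ ∈ D.negUnipotent K := by
  refine CfsgLib.Block.DefiningChar.Chevalley.rootGrp_negEx_le C i
    (C.rootGrp_conj (C.G.nPerm_nU i) (fun r hr => ?_) he)
  obtain ⟨j, hj, hneg⟩ := (CfsgLib.Block.DefiningChar.Chevalley.negEx_coord C).1 hr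
  refine (CfsgLib.Block.DefiningChar.Chevalley.negEx_coord C).2 ⟨j, hj, ?_⟩
  rw [C.G.sP_apply, C.G.rho_w, Pi.sub_apply, Pi.smul_apply, Pi.single_eq_of_ne hj, smul_zero,
    sub_zero]
  exact hneg

include C in
theorem isPGroup_VG [Fintype K] (p : ℕ) [Fact p.Prime] [CharP K p] : IsPGroup p (VG D K) := by
  have hU := CfsgLib.Block.DefiningChar.Chevalley.isPGroup_UG C (K := K) p
  let w : ↥(D.group K) := CfsgLib.Block.DefiningChar.Chevalley.wG C
  refine IsPGroup.of_injective hU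
    (((MulAut.conj w⁻¹).toMonoidHom.comp (VG D K).subtype).codRestrict (UG D K) fun y => ?_) ?_
  · show ((w⁻¹ * (y : ↥(D.group K)) * w⁻¹⁻¹ : ↥(D.group K)) : GL D.Idx K) ∈ D.posUnipotent K
    rw [inv_inv]
    exact (CfsgLib.Block.DefiningChar.Chevalley.mem_negUnipotent_iff C _).1 y.2
  · intro a b h
    exact Subtype.ext ((MulAut.conj w⁻¹).injective (congrArg Subtype.val h :))

/-- the rank one data of a Chevalley group -/
@[reducible]
noncomputable def rankOne [Fintype K] (p : ℕ) [Fact p.Prime] [CharP K p] :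
    CfsgLib.Rep.CurtisRichen.RankOne p ↥(D.group K) K (Fin D.rank) where
  U := UG D K
  V := VG D K
  T := TG D K
  φ := hom C
  hU := CfsgLib.Block.DefiningChar.Chevalley.isPGroup_UG C p
  hV := isPGroup_VG C p
  upp_mem i t := by
    show ((hom C i (upp t) : ↥(D.group K)) : GL D.Idx K) ∈ D.posUnipotent K
    rw [hom_upp]
    exact C.G.xu_mem_U (C.G.simp_pos i) t
  low_mem i t := by
    show ((hom C i (low t) : ↥(D.group K)) : GL D.Idx K) ∈ D.negUnipotent K
    rw [hom_low]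
    exact C.G.xu_mem_V ((C.G.isNegRoot_iff_not_pos _).2 (C.G.negr_simp_not_pos i)) t
  dia_mem i a := by
    show ((hom C i (dia a) : ↥(D.group K)) : GL D.Idx K) ∈ D.diagonalSubgroup K
    rw [hom_dia]
    exact C.G.hd_mem_H _ _
  T_comm s hs t ht := Subtype.ext (C.G.diagonal_comm hs ht)
  T_U t ht u hu :=
    (Subgroup.mem_normalizer_iff.1 (C.G.H_normalizes_U ht) (u : GL D.Idx K)).1 hu
  T_V t ht y hy := by
    show (t : GL D.Idx K) * (y : GL D.Idx K) * (t : GL D.Idx K)⁻¹ ∈ D.negUnipotent K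
    rw [C.G.negUnipotent_eq_closure]
    refine (Subgroup.mem_normalizer_iff.1 (C.G.H_le_normalizer (fun r => D.IsNegRoot r.val) ht) _).1 ?_
    rw [← C.G.negUnipotent_eq_closure]
    exact hy
  n_T i t ht := by
    show ((hom C i wey : ↥(D.group K)) : GL D.Idx K) * (t : GL D.Idx K) *
      ((hom C i wey : ↥(D.group K)) : GL D.Idx K)⁻¹ ∈ D.diagonalSubgroup K
    rw [hom_wey]
    refine (Subgroup.mem_normalizer_iff.1 (C.G.monomial_le_normalizer ?_) _).1 ht
    have := C.G.nw_mem_monomial (K := K) [i]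
    rwa [Good.nw, List.map_singleton, List.prod_singleton] at this
  split i y hy := by
    obtain ⟨e, he, t, e1⟩ := exists_split C i (show (y : GL D.Idx K) ∈ D.negUnipotent K from hy)
    have heV := CfsgLib.Block.DefiningChar.Chevalley.rootGrp_negEx_le C i he
    refine ⟨⟨e, C.G.negUnipotent_le_group heV⟩, heV, t, Subtype.ext ?_, ?_⟩
    · rw [Subgroup.coe_mul, hom_low]; exact e1
    · show ((hom C i wey : ↥(D.group K)) : GL D.Idx K) * e *
        ((hom C i wey : ↥(D.group K)) : GL D.Idx K)⁻¹ ∈ D.negUnipotent K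
      rw [hom_wey]
      exact conj_negEx_mem C i he
  gen := by
    intro g _
    set H := Subgroup.closure ((VG D K : Set ↥(D.group K)) ∪ Set.range fun i => hom C i wey)
    have hV : ∀ i t, (⟨C.G.xu (C.G.negr (C.G.simp' i)) t, C.G.xu_mem _ _⟩ : ↥(D.group K)) ∈ H :=
      fun i t => Subgroup.subset_closure (Or.inl
        (C.G.xu_mem_V ((C.G.isNegRoot_iff_not_pos _).2 (C.G.negr_simp_not_pos i)) t))
    have hle : D.group K ≤ H.map (D.group K).subtype := by
      refine le_of_eq_of_le C.G.group_eq_simple ((Subgroup.closure_le _).2 ?_)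
      rintro x ⟨i, t, rfl | rfl⟩
      · have hn : hom C i wey ∈ H := Subgroup.subset_closure (Or.inr ⟨i, rfl⟩)
        refine ⟨(hom C i wey)⁻¹ * ⟨_, C.G.xu_mem (C.G.negr (C.G.simp' i)) (-t)⟩ * hom C i wey,
          mul_mem (mul_mem (inv_mem hn) (hV i _)) hn, ?_⟩
        have e : hom C i (low (-t)) = (⟨_, C.G.xu_mem (C.G.negr (C.G.simp' i)) (-t)⟩ : ↥(D.group K)) :=
          Subtype.ext (hom_low C i (-t))
        rw [← e]
        rw [show (hom C i wey)⁻¹ * hom C i (low (-t)) * hom C i wey = hom C i (upp t) by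
          rw [mul_assoc, inv_mul_eq_iff_eq_mul, ← map_mul, ← map_mul,
            CfsgLib.Rep.CurtisRichen.wey_upp]]
        exact hom_upp C i t
      · exact ⟨_, hV i t, rfl⟩
    obtain ⟨z, hz, e⟩ := hle g.2
    rwa [(Subtype.ext e : z = g)] at hz

open Classical in
/-- the permutation of a monomial element -/
noncomputable def perm (m : ↥(D.group K)) : Equiv.Perm (Fin D.nroots) :=
  if h : (m : GL D.Idx K) ∈ D.monomialSubgroup K then C.G.pw (C.G.exists_nPerm h).choose else 1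

theorem nPerm_perm {m : ↥(D.group K)} (hm : (m : GL D.Idx K) ∈ D.monomialSubgroup K) :
    C.G.NPerm (m : GL D.Idx K) (perm C m) := by
  rw [perm, dif_pos hm]
  exact (C.G.exists_nPerm hm).choose_spec

theorem perm_eq {m : ↥(D.group K)} (hm : (m : GL D.Idx K) ∈ D.monomialSubgroup K)
    {w : Equiv.Perm (Fin D.nroots)} (hw : C.G.NPerm (m : GL D.Idx K) w) : perm C m = w :=
  Good.NPerm.unique C.G (nPerm_perm C hm) hw

theorem perm_mem {m : ↥(D.group K)} (hm : (m : GL D.Idx K) ∈ D.monomialSubgroup K) :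
    perm C m ∈ C.G.Wg := C.perm_mem_Wg hm (nPerm_perm C hm)

theorem sP_mem_Wg (i : Fin D.rank) : C.G.sP i ∈ C.G.Wg :=
  C.G.WJ_le _ (C.G.sP_mem_WJ (Finset.mem_singleton_self i))

theorem ninv_sP (i : Fin D.rank) : ninv C.G (C.G.sP i) = 1 := by
  classical
  rw [ninv, Finset.card_eq_one]
  refine ⟨C.G.simp' i, Finset.ext fun r => ?_⟩
  simp only [Finset.mem_filter, Finset.mem_univ, true_and, Finset.mem_singleton]
  constructor
  · rintro ⟨h1, h2⟩
    by_contra hne
    exact h2 (by rw [C.G.sP_apply]; exact C.G.w_pos h1 hne)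
  · rintro rfl
    exact ⟨C.G.simp_pos i, by rw [C.G.sP_apply, C.G.w_simp]; exact C.G.negr_simp_not_pos i⟩

theorem nU_perm (i : Fin D.rank) {m : ↥(D.group K)} (hm : (m : GL D.Idx K) ∈ D.monomialSubgroup K) :
    ((hom C i wey * m : ↥(D.group K)) : GL D.Idx K) ∈ D.monomialSubgroup K ∧
      perm C (hom C i wey * m) = C.G.sP i * perm C m ∧
    (((hom C i wey)⁻¹ * m : ↥(D.group K)) : GL D.Idx K) ∈ D.monomialSubgroup K ∧
      perm C ((hom C i wey)⁻¹ * m) = C.G.sP i * perm C m := by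
  have hn : ((hom C i wey : ↥(D.group K)) : GL D.Idx K) ∈ D.monomialSubgroup K := by
    rw [hom_wey]
    have := C.G.nw_mem_monomial (K := K) [i]
    rwa [Good.nw, List.map_singleton, List.prod_singleton] at this
  have hp : C.G.NPerm ((hom C i wey : ↥(D.group K)) : GL D.Idx K) (C.G.sP i) := by
    rw [hom_wey]; exact C.G.nPerm_nU i
  have h1 : ((hom C i wey * m : ↥(D.group K)) : GL D.Idx K) ∈ D.monomialSubgroup K := mul_mem hn hm
  have h2 : (((hom C i wey)⁻¹ * m : ↥(D.group K)) : GL D.Idx K) ∈ D.monomialSubgroup K :=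
    mul_mem (inv_mem hn) hm
  refine ⟨h1, perm_eq C h1 (Good.NPerm.mul C.G hp (nPerm_perm C hm)), h2, ?_⟩
  have := Good.NPerm.mul C.G (Good.NPerm.inv C.G hp) (nPerm_perm C hm)
  rw [C.G.sP_inv] at this
  exact perm_eq C h2 this

/-- the unipotent part of the cell of a monomial element -/
noncomputable def cellOf (m : ↥(D.group K)) : Subgroup ↥(D.group K) :=
  (Uinv C.G (perm C m)⁻¹).subgroupOf (D.group K)

theorem cellOf_conj_le {i : Fin D.rank} {w : Equiv.Perm (Fin D.nroots)} (hw : w ∈ C.G.Wg)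
    (hpos : D.IsPosRoot (w⁻¹ (C.G.simp' i)).val) {a : GL D.Idx K}
    (ha : a ∈ (Uinv C.G w⁻¹ : Subgroup (GL D.Idx K))) :
    C.G.nU i * a * (C.G.nU i)⁻¹ ∈ (Uinv C.G (C.G.sP i * w)⁻¹ : Subgroup (GL D.Idx K)) ∧
      C.G.nU i * a * (C.G.nU i)⁻¹ ∈ (Uex C.G i : Subgroup (GL D.Idx K)) := by
  have hne : ∀ r : Fin D.nroots, ¬ D.IsPosRoot (w⁻¹ r).val → r ≠ C.G.simp' i := fun r hr e =>
    hr (e ▸ hpos)
  have hle : (Uinv C.G w⁻¹ : Subgroup (GL D.Idx K)) ≤
      ((Uinv C.G (C.G.sP i * w)⁻¹ : Subgroup (GL D.Idx K)) ⊓ Uex C.G i).comap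
        (MulAut.conj (C.G.nU i)).toMonoidHom := by
    rw [Uinv, Subgroup.closure_le]
    rintro _ ⟨r, t, ⟨hr, hneg⟩, rfl⟩
    obtain ⟨c, hc⟩ := C.G.nPerm_nU (K := K) i r
    show C.G.nU i * C.G.xu r t * (C.G.nU i)⁻¹ ∈
      (Uinv C.G (C.G.sP i * w)⁻¹ : Subgroup (GL D.Idx K)) ⊓ Uex C.G i
    rw [hc, C.G.sP_apply]
    have hpos' := C.G.w_pos hr (hne r hneg)
    refine Subgroup.mem_inf.2 ⟨Subgroup.subset_closure ⟨_, _, ⟨hpos', ?_⟩, rfl⟩,
      Subgroup.subset_closure ⟨_, _, ⟨hpos', fun e => ?_⟩, rfl⟩⟩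
    · rw [mul_inv_rev, C.G.sP_inv, Equiv.Perm.mul_apply, C.G.sP_apply, C.G.w_w]
      exact hneg
    · have h := congrArg (C.G.w i) e
      rw [C.G.w_w, C.G.w_simp] at h
      exact C.G.negr_simp_not_pos i (h ▸ hr)
  have := hle ha
  rw [Subgroup.mem_comap, Subgroup.mem_inf] at this
  exact this

/-- the cells of a Chevalley group -/
noncomputable def cellSys [Fintype K] (p : ℕ) [Fact p.Prime] [CharP K p] :
    CfsgLib.Rep.CurtisRichen.CellSys (rankOne C (K := K) p) := by
  classical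
  have hlen : ∀ m : ↥(D.group K), ninv C.G (perm C m)⁻¹ ≤ D.nroots := fun m => by
    rw [ninv]; exact (Finset.card_le_univ _).trans (by simp)
  have hcases : ∀ (i : Fin D.rank) (m : ↥(D.group K)), (m : GL D.Idx K) ∈ D.monomialSubgroup K →
      (D.IsPosRoot ((perm C m)⁻¹ (C.G.simp' i)).val →
        ninv C.G (perm C m)⁻¹ + 1 = ninv C.G (perm C (hom C i wey * m))⁻¹) ∧
      (¬ D.IsPosRoot ((perm C m)⁻¹ (C.G.simp' i)).val →
        ninv C.G (perm C ((hom C i wey)⁻¹ * m))⁻¹ < ninv C.G (perm C m)⁻¹ ∧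
        ninv C.G (perm C (hom C i wey * m))⁻¹ < ninv C.G (perm C m)⁻¹) := by
    intro i m hm
    obtain ⟨-, e1, -, e2⟩ := nU_perm C i hm
    rw [e1, e2, mul_inv_rev, C.G.sP_inv]
    refine ⟨fun h => ?_, fun h => ⟨C.G.ninv_mul_sP_lt (inv_mem (perm_mem C hm)) h,
      C.G.ninv_mul_sP_lt (inv_mem (perm_mem C hm)) h⟩⟩
    rw [C.G.up_mul_ninv (J := {i}) (inv_mem (perm_mem C hm))
      (fun j hj => by rw [Finset.mem_singleton] at hj; exact hj ▸ h)
      (C.G.sP_mem_WJ (Finset.mem_singleton_self i)), ninv_sP]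
  have hasc : ∀ (i : Fin D.rank) (m : ↥(D.group K)), (m : GL D.Idx K) ∈ D.monomialSubgroup K →
      ninv C.G (perm C m)⁻¹ < ninv C.G (perm C (hom C i wey * m))⁻¹ →
      D.IsPosRoot ((perm C m)⁻¹ (C.G.simp' i)).val := by
    intro i m hm h
    by_contra hc
    have := ((hcases i m hm).2 hc).2
    omega
  have hmem : ∀ (i : Fin D.rank) (m : ↥(D.group K)), (m : GL D.Idx K) ∈ D.monomialSubgroup K →
      D.IsPosRoot ((perm C m)⁻¹ (C.G.simp' i)).val → ∀ (t : K) (a : ↥(D.group K)), a ∈ cellOf C m →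
      hom C i (upp t) * (hom C i wey * a * (hom C i wey)⁻¹) ∈ cellOf C (hom C i wey * m) := by
    intro i m hm hpos t a ha
    show ((hom C i (upp t) : ↥(D.group K)) : GL D.Idx K) *
      (((hom C i wey : ↥(D.group K)) : GL D.Idx K) * (a : GL D.Idx K) *
        ((hom C i wey : ↥(D.group K)) : GL D.Idx K)⁻¹) ∈
      (Uinv C.G (perm C (hom C i wey * m))⁻¹ : Subgroup (GL D.Idx K))
    rw [hom_upp, hom_wey, (nU_perm C i hm).2.1]
    refine mul_mem (Subgroup.subset_closure ⟨_, _, ⟨C.G.simp_pos i, ?_⟩, rfl⟩)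
      (cellOf_conj_le C (perm_mem C hm) hpos ha).1
    rw [mul_inv_rev, C.G.sP_inv, Equiv.Perm.mul_apply, C.G.sP_apply, C.G.w_simp,
      C.G.negr_WJ (inv_mem (perm_mem C hm)), C.G.negr_pos_iff, not_not]
    exact hpos
  have hinj : ∀ (i : Fin D.rank) (m : ↥(D.group K)), (m : GL D.Idx K) ∈ D.monomialSubgroup K →
      D.IsPosRoot ((perm C m)⁻¹ (C.G.simp' i)).val → ∀ (t t' : K) (a : ↥(D.group K)), a ∈ cellOf C m →
      ∀ a' : ↥(D.group K), a' ∈ cellOf C m →
      hom C i (upp t) * (hom C i wey * a * (hom C i wey)⁻¹) =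
        hom C i (upp t') * (hom C i wey * a' * (hom C i wey)⁻¹) → t = t' ∧ a = a' := by
    intro i m hm hpos t t' a ha a' ha' h
    have e := congrArg (Subtype.val) h
    simp only [Subgroup.coe_mul, InvMemClass.coe_inv, hom_upp, hom_wey] at e
    have h1 := (cellOf_conj_le C (perm_mem C hm) hpos (mul_mem ha' (inv_mem ha))).2
    have e2 : C.G.xu (C.G.simp' i) (-t' + t) =
        C.G.nU i * ((a' : GL D.Idx K) * (a : GL D.Idx K)⁻¹) * (C.G.nU i)⁻¹ := by
      rw [C.G.xu_add, ← C.G.xu_inv, inv_mul_eq_iff_eq_mul]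
      calc C.G.xu (C.G.simp' i) t = C.G.xu (C.G.simp' i) t *
          (C.G.nU i * (a : GL D.Idx K) * (C.G.nU i)⁻¹) * (C.G.nU i * (a : GL D.Idx K)⁻¹ * (C.G.nU i)⁻¹) := by group
        _ = _ := by rw [e]; group
    have h0 := CfsgLib.Block.DefiningChar.Chevalley.eq_zero_of_mem_Uex C i (e2 ▸ h1)
    have ht : t = t' := by linear_combination h0
    refine ⟨ht, ?_⟩
    subst ht
    exact mul_left_cancel (mul_right_cancel (mul_left_cancel h))
  exact
    { N := (D.monomialSubgroup K).subgroupOf (D.group K)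
      cell := cellOf C
      len := fun m => ninv C.G (perm C m)⁻¹
      bound := D.nroots
      len_le := fun m _ => hlen m
      n_mem := fun i => by
        show ((hom C i wey : ↥(D.group K)) : GL D.Idx K) ∈ D.monomialSubgroup K
        rw [hom_wey]
        have := C.G.nw_mem_monomial (K := K) [i]
        rwa [Good.nw, List.map_singleton, List.prod_singleton] at this
      N_T := fun m hm t ht =>
        (Subgroup.mem_normalizer_iff''.1 (C.G.monomial_le_normalizer hm) (t : GL D.Idx K)).1 ht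
      cell_one := by
        rw [eq_bot_iff]
        intro a ha
        rw [Subgroup.mem_bot]
        have h1 : perm C (1 : ↥(D.group K)) = 1 := perm_eq C (one_mem _) (Good.NPerm.one C.G)
        have ha' : (a : GL D.Idx K) ∈ (Uinv C.G (perm C (1 : ↥(D.group K)))⁻¹ : Subgroup (GL D.Idx K)) := ha
        rw [h1, inv_one] at ha'
        have hbot : (Uinv C.G (1 : Equiv.Perm (Fin D.nroots)) : Subgroup (GL D.Idx K)) ≤ ⊥ := by
          rw [Uinv, Subgroup.closure_le]
          rintro g ⟨r, t, ⟨hr, hneg⟩, -⟩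
          exact absurd hr hneg
        exact Subtype.ext (Subgroup.mem_bot.1 (hbot ha'))
      cell_le := fun m _ a ha => C.G.Uinv_le _ ha
      cell_split := fun m hm u hu => by
        obtain ⟨v, hv, a, ha, e⟩ := C.exists_inv_keep (perm C m)⁻¹ hu
        have haU : a ∈ D.posUnipotent K := C.G.Ukeep_le _ ha
        refine ⟨⟨v, C.G.posUnipotent_le_group (C.G.Uinv_le _ hv)⟩, hv,
          ⟨a, C.G.posUnipotent_le_group haU⟩, haU, Subtype.ext e, ?_⟩
        exact C.conj_keep_U (nPerm_perm C hm) ha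
      cell_inf := fun m hm a ha h => by
        have h2 := C.G.conj_Uinv (Good.NPerm.inv C.G (nPerm_perm C hm)) (a : GL D.Idx K) ha
        rw [inv_inv] at h2
        have h4 : (m : GL D.Idx K)⁻¹ * (a : GL D.Idx K) * (m : GL D.Idx K) = 1 :=
          Subgroup.mem_bot.1 (C.G.U_inf_V_eq (K := K) ▸ Subgroup.mem_inf.2 ⟨h, h2⟩)
        refine Subtype.ext ?_
        calc (a : GL D.Idx K) = (m : GL D.Idx K) * ((m : GL D.Idx K)⁻¹ * a * m) * (m : GL D.Idx K)⁻¹ := by group
          _ = 1 := by rw [h4]; group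
      cell_T := fun m _ t ht a ha => C.G.Uinv_congr_H ht _ ha
      asc_mem := fun i m hm h => hmem i m hm (hasc i m hm h)
      asc_inj := fun i m hm h t t' a ha a' ha' => hinj i m hm (hasc i m hm h) t t' a ha a' ha'
      asc_surj := fun i m hm h b hb => by
        have hpos := hasc i m hm h
        obtain ⟨hm1, hperm, -, -⟩ := nU_perm C i hm
        haveI : Fintype ↥(cellOf C m) := Fintype.ofFinite _
        haveI : Fintype ↥(cellOf C (hom C i wey * m)) := Fintype.ofFinite _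
        let Ψ : K × ↥(cellOf C m) → ↥(cellOf C (hom C i wey * m)) := fun x =>
          ⟨_, hmem i m hm hpos x.1 _ x.2.2⟩
        have hcard : ∀ (z : ↥(D.group K)), (z : GL D.Idx K) ∈ D.monomialSubgroup K →
            Nat.card ↥(cellOf C z) = Fintype.card K ^ ninv C.G (perm C z)⁻¹ := by
          intro z hz
          rw [cellOf, Nat.card_congr (Subgroup.subgroupOfEquivOfLe ((C.G.Uinv_le _).trans
            C.G.posUnipotent_le_group)).toEquiv,
            C.card_Uinv (Good.NPerm.inv C.G (nPerm_perm C hz))]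
        have hΨ : Function.Bijective Ψ := by
          rw [Nat.bijective_iff_injective_and_card]
          refine ⟨fun x y e => ?_, ?_⟩
          · obtain ⟨h1, h2⟩ := hinj i m hm hpos x.1 y.1 _ x.2.2 _ y.2.2 (congrArg Subtype.val e :)
            exact Prod.ext h1 (Subtype.ext h2)
          · rw [Nat.card_prod, hcard m hm, hcard _ hm1, Nat.card_eq_fintype_card,
              ← (hcases i m hm).1 hpos, pow_succ']
        obtain ⟨⟨t, a⟩, e⟩ := hΨ.2 ⟨b, hb⟩
        exact ⟨t, a, a.2, congrArg Subtype.val e⟩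
      dich := fun i m hm => by
        by_cases h : D.IsPosRoot ((perm C m)⁻¹ (C.G.simp' i)).val
        · left
          show ninv C.G (perm C m)⁻¹ < ninv C.G (perm C (hom C i wey * m))⁻¹
          rw [← (hcases i m hm).1 h]
          exact Nat.lt_succ_self _
        · exact Or.inr ((hcases i m hm).2 h).1 }

end

end CfsgLib.Lie.Chev.SimpleMod
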