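import Cfsg.Agent.Lib.Lie.Chev.SimpleMod.Inst
import Cfsg.Agent.Lib.Rep.CurtisRichen.Count

/-!
# Every parameter is afforded by an eigenvector in the group algebra
-/

set_option autoImplicit false
set_option maxHeartbeats 800000

open MonoidAlgebra

namespace CfsgLib.Lie.Chev.SimpleMod

open Cfsg.Lie CfsgLib.Lie.Chev CfsgLib.Rep.CurtisRichen
open CfsgLib.Block.DefiningChar.Chevalley (UG TG)
open scoped MatrixGroups

variable {D : ChevalleyDatum} {K : Type*} [Field K] [Fintype K] [DecidableEq K] (C : Full D)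
variable (p : ℕ) [Fact p.Prime] [CharP K p] {k : Type*} [Field k] [CharP k p]

local notation "𝐑" => rankOne C (K := K) p

theorem nRO_eq (i : Fin D.rank) : (𝐑).n i = hom C i wey := rfl

theorem hRO_eq (i : Fin D.rank) (a : Kˣ) : (((𝐑).h i a : ↥(D.group K)) : GL D.Idx K) = C.G.hd (C.G.simp' i) a :=
  hom_dia C i a

/-- the word element inside the group -/
noncomputable def word (l : List (Fin D.rank)) : ↥(D.group K) := (l.map fun i => hom C i wey).prod

local notation "𝐰" => word C (K := K)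

theorem coe_word (l : List (Fin D.rank)) : ((𝐰 l : ↥(D.group K)) : GL D.Idx K) = C.G.nw l := by
  induction l with
  | nil => simp [word, Good.nw]
  | cons a l ih =>
    rw [word, List.map_cons, List.prod_cons, Subgroup.coe_mul, C.G.nw_cons, hom_wey]
    exact congrArg _ ih

theorem word_append (l l' : List (Fin D.rank)) : 𝐰 (l ++ l') = 𝐰 l * 𝐰 l' := by
  simp [word]

theorem word_cons (i : Fin D.rank) (l : List (Fin D.rank)) :
    𝐰 (i :: l) = hom C i wey * 𝐰 l := by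
  simp [word]

theorem word_mem (l : List (Fin D.rank)) :
    ((𝐰 l : ↥(D.group K)) : GL D.Idx K) ∈ D.monomialSubgroup K := by
  rw [coe_word]; exact C.G.nw_mem_monomial l

theorem word_perm (l : List (Fin D.rank)) : perm C (𝐰 l) = C.G.pw l :=
  perm_eq C (word_mem C (K := K) l) (by rw [coe_word]; exact C.G.nPerm_nw l)

theorem perm_mul {m m' : ↥(D.group K)} (hm : (m : GL D.Idx K) ∈ D.monomialSubgroup K)
    (hm' : (m' : GL D.Idx K) ∈ D.monomialSubgroup K) : perm C (m * m') = perm C m * perm C m' :=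
  perm_eq C (mul_mem hm hm') (Good.NPerm.mul C.G (nPerm_perm C hm) (nPerm_perm C hm'))

theorem word_T (l : List (Fin D.rank)) (h : C.G.pw l = 1) : 𝐰 l ∈ TG D K := by
  show ((𝐰 l : ↥(D.group K)) : GL D.Idx K) ∈ D.diagonalSubgroup K
  refine C.G.mem_H_of_nPerm_one (word_mem C (K := K) l) ?_
  rw [coe_word, ← h]
  exact C.G.nPerm_nw l

/-- a conjugate of a torus element by a fundamental `n` differs by the rank one torus -/
theorem n_conj_torus (i : Fin D.rank) {t : ↥(D.group K)} (ht : t ∈ TG D K) :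
    ∃ a : Kˣ, hom C i wey * t * (hom C i wey)⁻¹ = ((𝐑).h i a : ↥(D.group K)) * t := by
  obtain ⟨c, hc⟩ := C.G.exists_tor (show (t : GL D.Idx K) ∈ D.diagonalSubgroup K from ht)
  set a := C.G.chi c (C.G.rho (C.G.simp' i))
  refine ⟨a⁻¹, Subtype.ext ?_⟩
  rw [Subgroup.coe_mul, Subgroup.coe_mul, Subgroup.coe_mul, InvMemClass.coe_inv, hom_wey, hRO_eq, hc]
  have hb : C.G.chi c (C.G.rho (C.G.negr (C.G.simp' i))) = a⁻¹ := by
    rw [C.G.rho_negr, ← neg_one_smul ℤ (C.G.rho (C.G.simp' i)), C.G.chi_zsmul, zpow_neg_one]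
  have h1 : C.G.tor c * C.G.nU i * (C.G.tor c)⁻¹ = C.G.hd (C.G.simp' i) a * C.G.nU i := by
    rw [← C.G.nE_simp_one]
    conv_lhs => rw [Good.nE]
    rw [show C.G.tor c * (C.G.xu (C.G.simp' i) 1 * C.G.xu (C.G.negr (C.G.simp' i)) (-1⁻¹) *
      C.G.xu (C.G.simp' i) 1) * (C.G.tor c)⁻¹ =
      (C.G.tor c * C.G.xu (C.G.simp' i) 1 * (C.G.tor c)⁻¹) *
      (C.G.tor c * C.G.xu (C.G.negr (C.G.simp' i)) (-1⁻¹) * (C.G.tor c)⁻¹) *
      (C.G.tor c * C.G.xu (C.G.simp' i) 1 * (C.G.tor c)⁻¹) by group,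
      C.G.tor_conj_xu, C.G.tor_conj_xu, hb, C.G.nE_simp_one, ← C.G.nE_simp, Good.nE]
    simp [a]
  calc C.G.nU i * C.G.tor c * (C.G.nU i)⁻¹
      = C.G.nU i * (C.G.tor c * C.G.nU i * (C.G.tor c)⁻¹)⁻¹ * C.G.tor c := by group
    _ = C.G.nU i * (C.G.hd (C.G.simp' i) a * C.G.nU i)⁻¹ * C.G.tor c := by rw [h1]
    _ = C.G.hd (C.G.simp' i) a⁻¹ * C.G.tor c := by rw [map_inv]; group

section weight

variable {I : Finset (Fin D.rank)}

/-- the weight at a group element of the torus -/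
noncomputable def chiAt (χ : ↥(𝐑).T →* k) (t : ↥(D.group K)) : k :=
  open Classical in if h : t ∈ TG D K then χ ⟨t, h⟩ else 0

theorem chiAt_eq (χ : ↥(𝐑).T →* k) (t : ↥(𝐑).T) : chiAt C p χ (t : ↥(D.group K)) = χ t := by
  rw [chiAt, dif_pos t.2]

theorem chiAt_mul (χ : ↥(𝐑).T →* k) {s t : ↥(D.group K)} (hs : s ∈ TG D K) (ht : t ∈ TG D K) :
    chiAt C p χ (s * t) = chiAt C p χ s * chiAt C p χ t := by
  rw [chiAt, chiAt, chiAt, dif_pos (mul_mem hs ht), dif_pos hs, dif_pos ht, ← map_mul]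
  rfl

theorem chiAt_hI {χ : ↥(rankOne C (K := K) p).T →* k} (hI : ∀ i ∈ I, RankOne.Triv (rankOne C (K := K) p) χ i)
    {i : Fin D.rank} (hi : i ∈ I) (a : Kˣ) :
    chiAt C p χ ((𝐑).h i a : ↥(D.group K)) = 1 := by
  rw [chiAt_eq]; exact hI i hi a

theorem chiAt_conj_n {χ : ↥(rankOne C (K := K) p).T →* k} (hI : ∀ i ∈ I, RankOne.Triv (rankOne C (K := K) p) χ i)
    {i : Fin D.rank} (hi : i ∈ I) {t : ↥(D.group K)} (ht : t ∈ TG D K) :
    chiAt C p χ (hom C i wey * t * (hom C i wey)⁻¹) = chiAt C p χ t := by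
  obtain ⟨a, e⟩ := n_conj_torus C p i ht
  rw [e, chiAt_mul C p χ ((𝐑).h i a).2 ht, chiAt_hI C p hI hi, one_mul]

theorem word_conj_T {χ : ↥(rankOne C (K := K) p).T →* k} (hI : ∀ i ∈ I, RankOne.Triv (rankOne C (K := K) p) χ i)
    : ∀ (l : List (Fin D.rank)), (∀ i ∈ l, i ∈ I) → ∀ {t : ↥(D.group K)}, t ∈ TG D K →
    𝐰 l * t * (𝐰 l)⁻¹ ∈ TG D K ∧
      chiAt C p χ (𝐰 l * t * (𝐰 l)⁻¹) = chiAt C p χ t := by
  intro l
  induction l with
  | nil => intro _ t ht; simpa [word] using ht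
  | cons a l ih =>
    intro hl t ht
    rw [List.forall_mem_cons] at hl
    obtain ⟨h1, h2⟩ := ih hl.2 ht
    rw [word_cons, show hom C a wey * 𝐰 l * t * (hom C a wey * 𝐰 l)⁻¹ =
      hom C a wey * (𝐰 l * t * (𝐰 l)⁻¹) * (hom C a wey)⁻¹ by group]
    exact ⟨(𝐑).n_T a _ h1, (chiAt_conj_n C p hI hl.1 h1).trans h2⟩

/-- a word with trivial permutation has trivial weight -/
theorem chiAt_word {χ : ↥(rankOne C (K := K) p).T →* k} (hI : ∀ i ∈ I, RankOne.Triv (rankOne C (K := K) p) χ i)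
    : ∀ (N : ℕ) (l : List (Fin D.rank)), l.length = N → (∀ i ∈ l, i ∈ I) →
    C.G.pw l = 1 → chiAt C p χ (𝐰 l) = 1 := by
  intro N
  induction N using Nat.strong_induction_on with
  | _ N ih =>
  intro l hN hl hpw
  rcases List.eq_nil_or_concat l with rfl | ⟨l', j, rfl⟩
  · have h := chiAt_eq C p χ 1
    rw [map_one] at h
    exact h
  rw [List.concat_eq_append] at hN hl hpw ⊢
  have hjI : j ∈ I := hl j (by simp)
  rw [C.G.pw_append, C.G.pw_single] at hpw
  have hneg : ¬ D.IsPosRoot (C.G.pw l' (C.G.simp' j)).val := by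
    have e : C.G.pw l' = C.G.sP j := by
      rw [eq_inv_of_mul_eq_one_left hpw, C.G.sP_inv]
    rw [e, C.G.sP_apply, C.G.w_simp]
    exact C.G.negr_simp_not_pos j
  obtain ⟨l₁, i, l₂, rfl, hperm, he⟩ := C.G.delete_right hneg
  have hiI : i ∈ I := hl i (by simp)
  have hl₁ : ∀ a ∈ l₁, a ∈ I := fun a ha => hl a (by simp [ha])
  have hl12 : ∀ a ∈ l₁ ++ l₂, a ∈ I := fun a ha => by
    rcases List.mem_append.1 ha with h | h <;> exact hl a (by simp [h])
  obtain ⟨c, -, hc⟩ := C.G.nw_conj_nE (K := K) l₂ (C.G.simp' j) 1 (Or.inl rfl)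
  rw [Units.val_one, C.G.nE_simp_one, he, C.G.nE_simp] at hc
  set n := hom C (K := K) i wey with hn
  set z : ↥(D.group K) := n * ((𝐑).h i c : ↥(D.group K)) * n⁻¹ * ((𝐑).h i (-1) : ↥(D.group K)) with hz
  have hsq : n * n = ((𝐑).h i (-1) : ↥(D.group K)) := by
    show hom C i wey * hom C i wey = hom C i (dia (-1))
    rw [← map_mul, wey_sq]
  have hword : 𝐰 ((l₁ ++ i :: l₂) ++ [j]) =
      𝐰 l₁ * z * (𝐰 l₁)⁻¹ * 𝐰 (l₁ ++ l₂) := by
    rw [word_append, word_append, word_cons, word_append, hz, ← hn, ← hsq]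
    have e : 𝐰 l₂ * 𝐰 [j] = ((𝐑).h i c : ↥(D.group K)) * n * 𝐰 l₂ := by
      refine Subtype.ext ?_
      have e1 : C.G.nw (K := K) [j] = C.G.nU j := by
        rw [Good.nw, List.map_singleton, List.prod_singleton]
      rw [Subgroup.coe_mul, Subgroup.coe_mul, Subgroup.coe_mul, hn, hom_wey, hRO_eq, coe_word, coe_word,
        e1]
      exact hc
    rw [mul_assoc, mul_assoc, e]
    group
  have hzT : z ∈ TG D K := mul_mem ((𝐑).n_T i _ ((𝐑).h i c).2) ((𝐑).h i (-1)).2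
  obtain ⟨h1, h2⟩ := word_conj_T C p hI l₁ hl₁ hzT
  have hpw2 : C.G.pw (l₁ ++ l₂) = 1 := by rw [← hperm]; exact hpw
  rw [hword, chiAt_mul C p χ h1 (word_T C (K := K) _ hpw2), h2,
    ih (l₁ ++ l₂).length (by simp at hN ⊢; omega) _ rfl hl12 hpw2, mul_one, hz,
    chiAt_mul C p χ ((𝐑).n_T i _ ((𝐑).h i c).2) ((𝐑).h i (-1)).2,
    chiAt_conj_n C p hI hiI ((𝐑).h i c).2, chiAt_hI C p hI hiI, chiAt_hI C p hI hiI, mul_one]

end weight

/-- an element of the group algebra of given weight -/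
noncomputable def base (ψ : ↥(𝐑).T →* k) [Fintype ↥(UG D K)] [Fintype ↥(TG D K)] :
    MonoidAlgebra k ↥(D.group K) :=
  ∑ x : ↥(UG D K) × ↥(TG D K), ψ (x.2⁻¹ : ↥(TG D K)) • single ((x.1 : ↥(D.group K)) * (x.2 : ↥(D.group K))) 1

theorem isWt_base (ψ : ↥(𝐑).T →* k) [Fintype ↥(UG D K)] [Fintype ↥(TG D K)] :
    (𝐑).IsWt ψ (base C p ψ) := by
  constructor
  · intro u hu
    rw [base, map_sum]
    refine Fintype.sum_equiv ((Equiv.mulLeft (⟨u, hu⟩ : ↥(UG D K))).prodCongr (Equiv.refl _)) _ _ fun x => ?_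
    rw [map_smul, RankOne.op_apply, smul_eq_mul, MonoidAlgebra.single_mul_single, mul_one, ← mul_assoc]
    rfl
  · intro t
    rw [base, map_sum, Finset.smul_sum]
    let e : ↥(UG D K) ≃ ↥(UG D K) :=
      { toFun := fun u => ⟨_, (𝐑).T_U _ t.2 _ u.2⟩
        invFun := fun u => ⟨_, (𝐑).T_U _ (inv_mem t.2) _ u.2⟩
        left_inv := fun u => Subtype.ext (by simp [mul_assoc])
        right_inv := fun u => Subtype.ext (by simp [mul_assoc]) }
    refine Fintype.sum_equiv (e.prodCongr (Equiv.mulLeft t)) _ _ fun x => ?_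
    rw [map_smul, RankOne.op_apply, smul_eq_mul, MonoidAlgebra.single_mul_single, mul_one,
      show (t : ↥(D.group K)) * ((x.1 : ↥(D.group K)) * (x.2 : ↥(D.group K))) =
        ((e x.1 : ↥(UG D K)) : ↥(D.group K)) * ((t * x.2 : ↥(TG D K)) : ↥(D.group K)) by
          show _ = (t : ↥(D.group K)) * x.1 * (t : ↥(D.group K))⁻¹ * ((t : ↥(D.group K)) * x.2)
          group, smul_smul]
    congr 1
    show ψ x.2⁻¹ = ψ t * ψ (t * x.2)⁻¹
    rw [← map_mul]
    congr 1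
    refine Subtype.ext ?_
    show (x.2 : ↥(D.group K))⁻¹ = (t : ↥(D.group K)) * ((t : ↥(D.group K)) * (x.2 : ↥(D.group K)))⁻¹
    rw [mul_inv_rev, ← mul_assoc,
      (𝐑).T_comm _ t.2 _ (inv_mem x.2.2), mul_assoc, mul_inv_cancel, mul_one]

/-- conjugation of the torus by a monomial element -/
def conjT {d : ↥(D.group K)} (hd : d ∈ (cellSys C (K := K) p).N) : ↥(𝐑).T →* ↥(𝐑).T where
  toFun t := ⟨d * (t : ↥(D.group K)) * d⁻¹, by
    have := (cellSys C (K := K) p).N_T d⁻¹ (inv_mem hd) _ t.2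
    rwa [inv_inv] at this⟩
  map_one' := Subtype.ext (by simp)
  map_mul' s t := Subtype.ext (by simp [mul_assoc])

/-- the weight carried to a cell -/
noncomputable def twist (χ : ↥(𝐑).T →* k) {d : ↥(D.group K)} (hd : d ∈ (cellSys C (K := K) p).N) :
    ↥(𝐑).T →* k := χ.comp (conjT C p hd)

theorem twist_apply (χ : ↥(𝐑).T →* k) {d : ↥(D.group K)} (hd : d ∈ (cellSys C (K := K) p).N)
    (t : ↥(𝐑).T) : twist C p χ hd t = chiAt C p χ (d * (t : ↥(D.group K)) * d⁻¹) := by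
  refine ((chiAt_eq C p χ (conjT C p hd t)).symm.trans ?_)
  rfl

theorem mem_N_iff {m : ↥(D.group K)} :
    m ∈ (cellSys C (K := K) p).N ↔ (m : GL D.Idx K) ∈ D.monomialSubgroup K := Iff.rfl

theorem len_eq (m : ↥(D.group K)) : (cellSys C (K := K) p).len m = ninv C.G (perm C m)⁻¹ := rfl

theorem cell_eq (m : ↥(D.group K)) : (cellSys C (K := K) p).cell m = cellOf C m := rfl

theorem word_mem_N (l : List (Fin D.rank)) : 𝐰 l ∈ (cellSys C (K := K) p).N :=
  (mem_N_iff C p).2 (word_mem C (K := K) l)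

section rep

variable {I : Finset (Fin D.rank)}
  {d : ↥(D.group K)} (hd : d ∈ (cellSys C (K := K) p).N)

theorem weight_rep {χ : ↥(rankOne C (K := K) p).T →* k} (hI : ∀ i ∈ I, RankOne.Triv (rankOne C (K := K) p) χ i)
    {d : ↥(D.group K)} (hd : d ∈ (cellSys C (K := K) p).N)
    (l : List (Fin D.rank)) (hl : ∀ i ∈ l, i ∈ I)
    (hm : 𝐰 l * d ∈ (cellSys C (K := K) p).N) :
    (cellSys C (K := K) p).wtConj hm (twist C p χ hd) = χ := by
  ext t
  rw [CellSys.wtConj_apply, twist_apply, ← chiAt_eq C p χ t]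
  have hT' : (𝐰 l)⁻¹ * (t : ↥(D.group K)) * 𝐰 l ∈ TG D K :=
    (cellSys C (K := K) p).N_T _ (word_mem_N C p l) _ t.2
  have h := (word_conj_T C p hI l hl hT').2
  rw [show 𝐰 l * ((𝐰 l)⁻¹ * (t : ↥(D.group K)) * 𝐰 l) *
    (𝐰 l)⁻¹ = (t : ↥(D.group K)) by group] at h
  rw [h]
  congr 1
  group

theorem chiAt_diff {χ : ↥(rankOne C (K := K) p).T →* k} (hI : ∀ i ∈ I, RankOne.Triv (rankOne C (K := K) p) χ i)
    (i : Fin D.rank) (hi : i ∈ I) (la lb : List (Fin D.rank))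
    (hla : ∀ j ∈ la, j ∈ I) (hlb : ∀ j ∈ lb, j ∈ I) (hpw : C.G.pw lb = C.G.sP i * C.G.pw la) :
    (𝐰 lb)⁻¹ * (hom C i wey * 𝐰 la) ∈ TG D K ∧
      chiAt C p χ ((𝐰 lb)⁻¹ * (hom C i wey * 𝐰 la)) = 1 := by
  have p₁ : C.G.pw (lb.reverse ++ lb) = 1 := by
    rw [C.G.pw_append, C.G.pw_reverse, inv_mul_cancel]
  have p₂ : C.G.pw (lb.reverse ++ i :: la) = 1 := by
    rw [C.G.pw_append, C.G.pw_reverse, C.G.pw_cons, ← hpw, inv_mul_cancel]
  have hz : (𝐰 lb)⁻¹ * (hom C i wey * 𝐰 la) =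
      (𝐰 (lb.reverse ++ lb))⁻¹ * 𝐰 (lb.reverse ++ i :: la) := by
    rw [word_append, word_append, word_cons]
    group
  have hT12 := mul_mem (inv_mem (word_T C (K := K) _ p₁)) (word_T C (K := K) _ p₂)
  rw [hz]
  refine ⟨hT12, ?_⟩
  have hall₁ : ∀ j ∈ lb.reverse ++ lb, j ∈ I := by
    intro j hj
    rcases List.mem_append.1 hj with h | h
    exacts [hlb j (List.mem_reverse.1 h), hlb j h]
  have hall₂ : ∀ j ∈ lb.reverse ++ i :: la, j ∈ I := by
    intro j hj
    rcases List.mem_append.1 hj with h | h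
    · exact hlb j (List.mem_reverse.1 h)
    · rcases List.mem_cons.1 h with rfl | h
      exacts [hi, hla j h]
  have h1 := chiAt_mul C p χ (word_T C (K := K) _ p₁) hT12
  rw [mul_inv_cancel_left, chiAt_word C p hI _ _ rfl hall₁ p₁, one_mul,
    chiAt_word C p hI _ _ rfl hall₂ p₂] at h1
  exact h1.symm

theorem asc_rep {χ : ↥(rankOne C (K := K) p).T →* k} (hI : ∀ i ∈ I, RankOne.Triv (rankOne C (K := K) p) χ i)
    {d : ↥(D.group K)} (hd : d ∈ (cellSys C (K := K) p).N)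
    {v : MonoidAlgebra k ↥(D.group K)} (hv : (𝐑).IsWt (twist C p χ hd) v)
    (i : Fin D.rank) (hi : i ∈ I) (la lb : List (Fin D.rank))
    (hla : ∀ j ∈ la, j ∈ I) (hlb : ∀ j ∈ lb, j ∈ I) (hpw : C.G.pw lb = C.G.sP i * C.G.pw la) :
    (cellSys C (K := K) p).Fsum (k := k) ((𝐑).n i * (𝐰 la * d)) v =
      (cellSys C (K := K) p).Fsum (k := k) (𝐰 lb * d) v := by
  obtain ⟨hT, h1⟩ := chiAt_diff C p hI i hi la lb hla hlb hpw
  set z₀ := (𝐰 lb)⁻¹ * (hom C i wey * 𝐰 la) with hz₀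
  set z := d⁻¹ * z₀ * d with hz
  have hzT : z ∈ TG D K := (cellSys C (K := K) p).N_T d hd _ hT
  have hψz : twist C p χ hd ⟨z, hzT⟩ = 1 := by
    rw [twist_apply]
    show chiAt C p χ (d * z * d⁻¹) = 1
    rw [show d * z * d⁻¹ = z₀ by rw [hz]; group, h1]
  have hla' : ((𝐰 la * d : ↥(D.group K)) : GL D.Idx K) ∈ D.monomialSubgroup K :=
    mul_mem (word_mem C (K := K) la) ((mem_N_iff C p).1 hd)
  have hcell : (cellSys C (K := K) p).cell ((𝐑).n i * (𝐰 la * d)) =
      (cellSys C (K := K) p).cell (𝐰 lb * d) := by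
    rw [cell_eq, cell_eq, cellOf, cellOf]
    congr 3
    rw [nRO_eq, (nU_perm C i hla').2.1, perm_mul C (word_mem C (K := K) la) ((mem_N_iff C p).1 hd),
      perm_mul C (word_mem C (K := K) lb) ((mem_N_iff C p).1 hd), word_perm, word_perm, hpw, mul_assoc]
  haveI : Fintype ↥((cellSys C (K := K) p).cell ((𝐑).n i * (𝐰 la * d))) := Fintype.ofFinite _
  haveI : Fintype ↥((cellSys C (K := K) p).cell (𝐰 lb * d)) := Fintype.ofFinite _
  rw [CellSys.Fsum_apply, CellSys.Fsum_apply]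
  refine Fintype.sum_equiv (MulEquiv.subgroupCongr hcell).toEquiv _ _ fun u => ?_
  show RankOne.op (k := k) ((u : ↥(D.group K)) * ((𝐑).n i * (𝐰 la * d))) v =
    RankOne.op (k := k) ((u : ↥(D.group K)) * (𝐰 lb * d)) v
  rw [show (u : ↥(D.group K)) * ((𝐑).n i * (𝐰 la * d)) =
      (u : ↥(D.group K)) * (𝐰 lb * d) * z by rw [hz, hz₀]; simp only [RankOne.n]; group,
    RankOne.op_mul, show RankOne.op (k := k) z v = _ from hv.2 ⟨z, hzT⟩, hψz, one_smul]

end rep

theorem asc_lt {m : ↥(D.group K)} (hm : m ∈ (cellSys C (K := K) p).N) {i : Fin D.rank}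
    (hpos : D.IsPosRoot ((perm C m)⁻¹ (C.G.simp' i)).val) :
    (cellSys C (K := K) p).len m < (cellSys C (K := K) p).len ((𝐑).n i * m) := by
  rw [len_eq, len_eq, nRO_eq, (nU_perm C i ((mem_N_iff C p).1 hm)).2.1, mul_inv_rev, C.G.sP_inv]
  exact C.G.ninv_mul_sP (inv_mem (perm_mem C ((mem_N_iff C p).1 hm))) hpos

theorem desc_lt {m : ↥(D.group K)} (hm : m ∈ (cellSys C (K := K) p).N) {i : Fin D.rank}
    (hneg : ¬ D.IsPosRoot ((perm C m)⁻¹ (C.G.simp' i)).val) :
    (cellSys C (K := K) p).len (((𝐑).n i)⁻¹ * m) < (cellSys C (K := K) p).len m := by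
  rcases (cellSys C (K := K) p).dich i m hm with h | h
  · exfalso
    rw [len_eq, len_eq, nRO_eq, (nU_perm C i ((mem_N_iff C p).1 hm)).2.1, mul_inv_rev,
      C.G.sP_inv] at h
    exact absurd h
      (not_lt.2 (C.G.ninv_mul_sP_lt (inv_mem (perm_mem C ((mem_N_iff C p).1 hm))) hneg).le)
  · exact h

theorem desc_rep {ψ χ : ↥(𝐑).T →* k} {v : MonoidAlgebra k ↥(D.group K)} (hv : (𝐑).IsWt ψ v)
    {m : ↥(D.group K)} (hm : m ∈ (cellSys C (K := K) p).N)
    (hw : (cellSys C (K := K) p).wtConj hm ψ = χ) {i : Fin D.rank}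
    (hneg : ¬ D.IsPosRoot ((perm C m)⁻¹ (C.G.simp' i)).val) :
    (𝐑).Top (k := k) i ((cellSys C (K := K) p).Fsum (k := k) m v) =
      (𝐑).hsum χ i • (cellSys C (K := K) p).Fsum (k := k) m v := by
  rw [CellSys.Top_Fsum_desc _ hv hm (desc_lt C p hm hneg)]
  congr 1
  rw [RankOne.hsum, RankOne.hsum]
  refine Fintype.sum_equiv (Equiv.inv Kˣ) _ _ fun b => ?_
  rw [← hw, CellSys.wtConj_apply, CellSys.wtConj_apply]
  congr 1
  refine Subtype.ext ?_
  show (((𝐑).n i)⁻¹ * m)⁻¹ * ((𝐑).h i b : ↥(D.group K)) * (((𝐑).n i)⁻¹ * m) =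
    m⁻¹ * ((𝐑).h i b⁻¹ : ↥(D.group K)) * m
  have e : hom C (K := K) i wey * hom C i (dia b) * (hom C i wey)⁻¹ = hom C i (dia b⁻¹) := by
    rw [mul_inv_eq_iff_eq_mul, ← map_mul, ← map_mul, dia_wey, inv_inv]
  show ((hom C i wey)⁻¹ * m)⁻¹ * hom C i (dia b) * ((hom C i wey)⁻¹ * m) =
    m⁻¹ * hom C i (dia b⁻¹) * m
  rw [← e]
  group

theorem coeff_rep (ψ : ↥(𝐑).T →* k) [Fintype ↥(UG D K)] [Fintype ↥(TG D K)]
    {m m₀ : ↥(D.group K)} (hm : m ∈ (cellSys C (K := K) p).N)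
    (hm₀ : m₀ ∈ (cellSys C (K := K) p).N) (hne : m ≠ m₀ → perm C m ≠ perm C m₀) :
    open Classical in
    ((cellSys C (K := K) p).Fsum (k := k) m (base C p ψ)).coeff m₀ = if m = m₀ then 1 else 0 := by
  classical
  haveI : Fintype ↥((cellSys C (K := K) p).cell m) := Fintype.ofFinite _
  have key : ∀ (u : ↥((cellSys C (K := K) p).cell m)) (y : ↥(UG D K) × ↥(TG D K)),
      (u : ↥(D.group K)) * m * ((y.1 : ↥(D.group K)) * (y.2 : ↥(D.group K))) = m₀ →
        m = m₀ ∧ u = 1 ∧ y = 1 := by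
    intro u y hy
    have hB : (((y.1 : ↥(D.group K)) * (y.2 : ↥(D.group K)) : ↥(D.group K)) : GL D.Idx K) ∈
        D.borelSubgroup K :=
      mul_mem (Subgroup.mem_sup_left y.1.2) (Subgroup.mem_sup_right y.2.2)
    have huU : ((u : ↥(D.group K)) : GL D.Idx K) ∈ (Uinv C.G (perm C m)⁻¹ : Subgroup (GL D.Idx K)) :=
      u.2
    have hu : ((u : ↥(D.group K)) : GL D.Idx K) ∈ D.borelSubgroup K :=
      Subgroup.mem_sup_left (C.G.Uinv_le _ huU)
    have c1 : C.InCell ((m₀ : ↥(D.group K)) : GL D.Idx K) (perm C m) :=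
      ⟨_, hu, (m : GL D.Idx K), (mem_N_iff C p).1 hm, nPerm_perm C ((mem_N_iff C p).1 hm), _, hB,
        by rw [← hy, Subgroup.coe_mul, Subgroup.coe_mul]⟩
    have c2 : C.InCell ((m₀ : ↥(D.group K)) : GL D.Idx K) (perm C m₀) :=
      ⟨1, one_mem _, (m₀ : GL D.Idx K), (mem_N_iff C p).1 hm₀,
        nPerm_perm C ((mem_N_iff C p).1 hm₀), 1, one_mem _, by rw [one_mul, mul_one]⟩
    have ea : m = m₀ := by
      by_contra hh
      exact hne hh (C.inCell_unique c1 c2)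
    subst ea
    have h1 : (y.1 : ↥(D.group K)) * (y.2 : ↥(D.group K)) = m⁻¹ * (u : ↥(D.group K))⁻¹ * m := by
      calc (y.1 : ↥(D.group K)) * (y.2 : ↥(D.group K)) = m⁻¹ * (u : ↥(D.group K))⁻¹ *
          ((u : ↥(D.group K)) * m * ((y.1 : ↥(D.group K)) * (y.2 : ↥(D.group K)))) := by group
        _ = _ := by rw [hy]
    have h2 := C.G.conj_Uinv (Good.NPerm.inv C.G (nPerm_perm C ((mem_N_iff C p).1 hm))) _
      (inv_mem huU)
    rw [inv_inv] at h2
    have h3 : (y.1 : ↥(D.group K)) * (y.2 : ↥(D.group K)) = 1 := by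
      refine Subtype.ext (Subgroup.mem_bot.1 (C.G.B_inf_V (K := K) ▸ Subgroup.mem_inf.2 ⟨hB, ?_⟩))
      rw [h1]
      exact h2
    have hu1 : u = 1 := by
      refine Subtype.ext ?_
      rw [h3] at h1
      calc (u : ↥(D.group K)) = m * (m⁻¹ * (u : ↥(D.group K))⁻¹ * m)⁻¹ * m⁻¹ := by group
        _ = 1 := by rw [← h1]; group
    refine ⟨rfl, hu1, ?_⟩
    have e1 : ((y.1 : ↥(D.group K)) : GL D.Idx K) = 1 := by
      refine Subgroup.mem_bot.1 (C.G.U_inf_H (K := K) ▸ Subgroup.mem_inf.2 ⟨y.1.2, ?_⟩)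
      rw [eq_inv_of_mul_eq_one_left h3, InvMemClass.coe_inv]
      exact inv_mem y.2.2
    have e1' : (y.1 : ↥(D.group K)) = 1 := Subtype.ext e1
    refine Prod.ext (Subtype.ext e1') (Subtype.ext ?_)
    rwa [e1', one_mul] at h3
  rw [CellSys.Fsum_apply, MonoidAlgebra.coeff_sum, Finset.sum_apply']
  have hexp : ∀ u : ↥((cellSys C (K := K) p).cell m),
      (RankOne.op (k := k) ((u : ↥(D.group K)) * m) (base C p ψ)).coeff m₀ =
      ∑ y : ↥(UG D K) × ↥(TG D K), if (u : ↥(D.group K)) * m *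
        ((y.1 : ↥(D.group K)) * (y.2 : ↥(D.group K))) = m₀ then ψ (y.2⁻¹ : ↥(TG D K)) else 0 := by
    intro u
    rw [base, map_sum, MonoidAlgebra.coeff_sum, Finset.sum_apply']
    refine Finset.sum_congr rfl fun y _ => ?_
    simp [RankOne.op_apply, MonoidAlgebra.coeff_single, Finsupp.single_apply]
  rw [Finset.sum_congr rfl fun u _ => hexp u]
  by_cases ha : m = m₀
  · subst ha
    rw [if_pos rfl, Finset.sum_eq_single (1 : ↥((cellSys C (K := K) p).cell m))
        (fun u _ hu => Finset.sum_eq_zero fun y _ => if_neg fun h => hu (key u y h).2.1) (by simp),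
      Finset.sum_eq_single (1 : ↥(UG D K) × ↥(TG D K))
        (fun y _ hy => if_neg fun h => hy (key 1 y h).2.2) (by simp), if_pos (by simp)]
    simp
  · rw [if_neg ha]
    exact Finset.sum_eq_zero fun u _ => Finset.sum_eq_zero fun y _ => if_neg fun h => ha (key u y h).1

/-- positivity of `a⁻¹` followed by `x` on a fundamental root -/
theorem sign_rep {I : Finset (Fin D.rank)} {a x : Equiv.Perm (Fin D.nroots)} (ha : a ∈ WJ C.G I)
    (hxW : x ∈ C.G.Wg) (hxI : Up C.G I x)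
    (hxout : ∀ r : Fin D.nroots, D.IsPosRoot r.val → ¬ InJ C.G I r → ¬ D.IsPosRoot (x r).val)
    (i : Fin D.rank) (h : D.IsPosRoot ((a * x⁻¹)⁻¹ (C.G.simp' i)).val) :
    i ∈ I ∧ D.IsPosRoot (a⁻¹ (C.G.simp' i)).val := by
  rw [mul_inv_rev, inv_inv, Equiv.Perm.mul_apply] at h
  by_cases hi : i ∈ I
  · exact ⟨hi, (C.G.up_sign hxW hxI (C.G.inJ_image (inv_mem ha) (C.G.inJ_simp_self hi))).1 h⟩
  · exfalso
    have hout : ¬ InJ C.G I (C.G.simp' i) := fun h' => by
      have := h' i hi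
      rw [C.G.rho_simp, Pi.single_eq_same] at this
      exact one_ne_zero this
    obtain ⟨h1, h2⟩ := C.G.outside_image (inv_mem ha) hout
    exact hxout _ (h2.2 (C.G.simp_pos i)) h1 h

/-- flipping the sign by a fundamental reflection -/
theorem flip_rep {I : Finset (Fin D.rank)} {a x : Equiv.Perm (Fin D.nroots)} (ha : a ∈ WJ C.G I)
    (hxW : x ∈ C.G.Wg) (i : Fin D.rank) :
    D.IsPosRoot ((C.G.sP i * a * x⁻¹)⁻¹ (C.G.simp' i)).val ↔
      ¬ D.IsPosRoot ((a * x⁻¹)⁻¹ (C.G.simp' i)).val := by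
  rw [mul_inv_rev, mul_inv_rev, mul_inv_rev, C.G.sP_inv, inv_inv,
    Equiv.Perm.mul_apply, Equiv.Perm.mul_apply, C.G.sP_apply, C.G.w_simp,
    C.G.negr_WJ (inv_mem (C.G.WJ_le I ha)), C.G.negr_WJ hxW, C.G.negr_pos_iff,
    Equiv.Perm.mul_apply]

theorem exists_realize (π : (𝐑).Param k) :
    ∃ v : MonoidAlgebra k ↥(D.group K), v ≠ 0 ∧ (𝐑).IsEig π.1.1 (RankOne.evals π.1.2) v := by
  classical
  obtain ⟨⟨χ, J⟩, hJ⟩ := π
  let I : Finset (Fin D.rank) := Finset.univ.filter fun i => (𝐑).Triv χ i ∧ i ∉ J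
  have hI : ∀ i ∈ I, (𝐑).Triv χ i := fun i hi => (Finset.mem_filter.1 hi).2.1
  haveI : Fintype ↥(UG D K) := Fintype.ofFinite _
  haveI : Fintype ↥(TG D K) := Fintype.ofFinite _
  -- the representatives
  set x := C.G.wtop Finset.univ * C.G.wtop I with hx
  have hxW : x ∈ C.G.Wg := mul_mem (C.G.WJ_le _ (C.G.wtop_mem _)) (C.G.WJ_le _ (C.G.wtop_mem _))
  have hxI : Up C.G I x := fun j hj =>
    (C.G.down_sign (C.G.WJ_le _ (C.G.wtop_mem _)) (C.G.wtop_down _) (C.G.inJ_univ _)).2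
      (C.G.wtop_down I j hj)
  have hxout : ∀ r : Fin D.nroots, D.IsPosRoot r.val → ¬ InJ C.G I r → ¬ D.IsPosRoot (x r).val := by
    intro r hr hout h
    exact ((C.G.down_sign (C.G.WJ_le _ (C.G.wtop_mem _)) (C.G.wtop_down _) (C.G.inJ_univ _)).1 h)
      ((C.G.outside_image (C.G.wtop_mem I) hout).2.2 hr)
  obtain ⟨d, hdN, hdperm⟩ : ∃ d : ↥(D.group K),
      (d : GL D.Idx K) ∈ D.monomialSubgroup K ∧ perm C d = x⁻¹ :=
    ⟨⟨C.nr x⁻¹, C.G.monomial_le_group (C.nr_mem _)⟩, C.nr_mem _,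
      perm_eq C (C.nr_mem _) (C.nr_perm (inv_mem hxW))⟩
  have hd : d ∈ (cellSys C (K := K) p).N := (mem_N_iff C p).2 hdN
  let W := {a : Equiv.Perm (Fin D.nroots) // a ∈ WJ C.G I}
  have hex : ∀ a : W, ∃ l : List (Fin D.rank), (∀ i ∈ l, i ∈ I) ∧ C.G.pw l = a.1 := fun a =>
    C.G.exists_pwJ a.2
  choose la hla using hex
  let m : W → ↥(D.group K) := fun a => 𝐰 (la a) * d
  have hmN : ∀ a, m a ∈ (cellSys C (K := K) p).N := fun a => mul_mem (word_mem_N C p (la a)) hd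
  have hmperm : ∀ a, perm C (m a) = a.1 * x⁻¹ := fun a => by
    show perm C (𝐰 (la a) * d) = _
    rw [perm_mul C (word_mem C (K := K) (la a)) hdN, word_perm, (hla a).2, hdperm]
  set ψ := twist C p χ hd with hψ
  set e := base C p ψ with he
  have hwt : (𝐑).IsWt ψ e := isWt_base C p ψ
  have hweight : ∀ a, (cellSys C (K := K) p).wtConj (hmN a) ψ = χ :=
    fun a => weight_rep C p hI hd (la a) (hla a).1 _
  let g : W → MonoidAlgebra k ↥(D.group K) :=
    fun a => (cellSys C (K := K) p).Fsum (k := k) (m a) e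
  let sm : Fin D.rank → W → W := fun i a =>
    if h : i ∈ I then ⟨C.G.sP i * a.1, mul_mem (C.G.sP_mem_WJ h) a.2⟩ else a
  have hascI : ∀ (i : Fin D.rank), i ∈ I → ∀ a : W, D.IsPosRoot ((perm C (m a))⁻¹ (C.G.simp' i)).val →
      (𝐑).Top (k := k) i (g a) = g (sm i a) := by
    intro i hi a hpos
    have hb1 : (sm i a).1 = C.G.sP i * a.1 := by simp only [sm, dif_pos hi]
    show (𝐑).Top (k := k) i ((cellSys C (K := K) p).Fsum (k := k) (m a) e) = _
    rw [CellSys.Top_Fsum _ (hmN a) (asc_lt C p (hmN a) hpos)]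
    exact asc_rep C p hI hd hwt i hi (la a) (la (sm i a)) (hla a).1 (hla _).1
      (by rw [(hla _).2, hb1, (hla a).2])
  refine ⟨∑ a : W, g a, ?_, ⟨fun u hu => ?_, fun t => ?_⟩, fun i => ?_⟩
  · -- the coefficient at a representative
    intro h0
    let a₀ : W := ⟨1, one_mem _⟩
    have hc := congrArg (fun z : MonoidAlgebra k ↥(D.group K) => z.coeff (m a₀)) h0
    simp only [MonoidAlgebra.coeff_zero, Finsupp.coe_zero, Pi.zero_apply, MonoidAlgebra.coeff_sum,
      Finset.sum_apply'] at hc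
    have hterm : ∀ a : W, (g a).coeff (m a₀) = if a = a₀ then 1 else 0 := by
      intro a
      show ((cellSys C (K := K) p).Fsum (k := k) (m a) (base C p ψ)).coeff (m a₀) = _
      rw [coeff_rep C p ψ (hmN a) (hmN a₀) fun hne h => hne (by
        rw [hmperm, hmperm] at h
        rw [Subtype.ext (mul_right_cancel h) (a1 := a) (a2 := a₀)])]
      by_cases ha : a = a₀
      · subst ha; rw [if_pos rfl, if_pos rfl]
      · rw [if_neg ha, if_neg fun h => ha ?_]
        have := congrArg (perm C) h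
        rw [hmperm, hmperm] at this
        exact Subtype.ext (mul_right_cancel this)
    rw [Finset.sum_congr rfl fun a _ => hterm a, Finset.sum_ite_eq' Finset.univ a₀,
      if_pos (Finset.mem_univ _)] at hc
    exact one_ne_zero hc
  · rw [map_sum]
    exact Finset.sum_congr rfl fun a _ =>
      ((cellSys C (K := K) p).isWt_Fsum hwt (hmN a)).1 u hu
  · rw [map_sum, Finset.smul_sum]
    refine Finset.sum_congr rfl fun a _ => ?_
    rw [((cellSys C (K := K) p).isWt_Fsum hwt (hmN a)).2 t, hweight a]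
  · have hdesc : ∀ a : W, ¬ D.IsPosRoot ((perm C (m a))⁻¹ (C.G.simp' i)).val →
        (𝐑).Top (k := k) i (g a) = (𝐑).hsum χ i • g a :=
      fun a h => desc_rep C p hwt (hmN a) (hweight a) h
    rw [map_sum]
    by_cases hi : i ∈ I
    · have hev : RankOne.evals (k := k) J i = 0 := if_neg (Finset.mem_filter.1 hi).2.2
      rw [hev, zero_smul]
      have hs : (𝐑).hsum χ i = -1 := by rw [RankOne.hsum_eq, if_pos (hI i hi)]
      have hsm : ∀ a, (sm i a).1 = C.G.sP i * a.1 := fun a => by simp only [sm, dif_pos hi]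
      have hinv : Function.Involutive (sm i) := fun a => Subtype.ext (by
        rw [hsm, hsm, ← mul_assoc, C.G.sP_mul_self, one_mul])
      have hflip : ∀ a, D.IsPosRoot ((perm C (m (sm i a)))⁻¹ (C.G.simp' i)).val ↔
          ¬ D.IsPosRoot ((perm C (m a))⁻¹ (C.G.simp' i)).val := by
        intro a
        rw [hmperm, hmperm, hsm]
        exact flip_rep C a.2 hxW i
      refine Finset.sum_involution (fun a _ => sm i a) (fun a _ => ?_) (fun a _ _ e' => ?_)
        (fun a _ => Finset.mem_univ _) fun a _ => hinv a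
      · by_cases hp : D.IsPosRoot ((perm C (m a))⁻¹ (C.G.simp' i)).val
        · rw [hascI i hi a hp, hdesc (sm i a) (fun h => (hflip a).1 h hp), hs, neg_one_smul,
            add_neg_cancel]
        · rw [hdesc a hp, hascI i hi (sm i a) ((hflip a).2 hp), hinv a, hs, neg_one_smul,
            neg_add_cancel]
      · have h := hflip a
        rw [e'] at h
        exact iff_not_self h
    · rw [Finset.smul_sum]
      refine Finset.sum_congr rfl fun a _ => ?_
      rw [hdesc a fun h => hi (sign_rep C a.2 hxW hxI hxout i (hmperm a ▸ h)).1]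
      congr 1
      rw [RankOne.hsum_eq]
      by_cases ht : (𝐑).Triv χ i
      · have hiJ : i ∈ J := by
          by_contra hc
          exact hi (Finset.mem_filter.2 ⟨Finset.mem_univ _, ht, hc⟩)
        rw [if_pos ht]
        exact (if_pos hiJ).symm
      · rw [if_neg ht]
        exact (if_neg fun h => ht (hJ i h)).symm

/-- **The number of semisimple classes** when the torus is the product of the rank one tori -/
theorem card_semisimple_classes [IsAlgClosed k] (hinj : Function.Injective (C.G.torθ (K := K))) :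
    Nat.card {c : ConjClasses ↥(D.group K) //
      ∃ g : ↥(D.group K), ConjClasses.mk g = c ∧ (orderOf g).Coprime p} = Fintype.card K ^ D.rank := by
  classical
  let f : (Fin D.rank → Kˣ) →* ↥(𝐑).T :=
    { toFun := fun c => ⟨⟨C.G.torθ c, by
          have : C.G.torθ c ∈ D.diagonalSubgroup K := by rw [C.G.diagonal_eq_range]; exact ⟨c, rfl⟩
          exact C.G.diagonal_le_group this⟩, by
        show C.G.torθ c ∈ D.diagonalSubgroup K
        rw [C.G.diagonal_eq_range]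
        exact ⟨c, rfl⟩⟩
      map_one' := Subtype.ext (Subtype.ext (map_one _))
      map_mul' := fun a b => Subtype.ext (Subtype.ext (map_mul _ a b)) }
  have hf : Function.Bijective f := by
    refine ⟨fun a b h => hinj (congrArg (fun t : ↥(𝐑).T => ((t : ↥(D.group K)) : GL D.Idx K)) h), fun t => ?_⟩
    have h : ((t : ↥(D.group K)) : GL D.Idx K) ∈ (C.G.torθ (K := K)).range := by
      rw [← C.G.diagonal_eq_range]; exact t.2
    obtain ⟨c, hc⟩ := h
    exact ⟨c, Subtype.ext (Subtype.ext hc)⟩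
  obtain ⟨hfin, hcard⟩ := (𝐑).card_param (k := k) (MulEquiv.ofBijective f hf) (fun i a =>
    Subtype.ext (Subtype.ext ((C.G.torθ_single i a).trans (hRO_eq C p i a).symm)))
  haveI := hfin
  rw [(𝐑).card_regular_eq (k := k) (cellSys C (K := K) p) (fun π => exists_realize C p π), hcard,
    Fintype.card_fin]

end CfsgLib.Lie.Chev.SimpleMod
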